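import Cfsg.Agent.R2.T1.Main29.Skel
import Cfsg.Agent.R2.T1.N6B.Main
import Cfsg.Agent.R2.T1.N7.Big
import Cfsg.Agent.R2.T1.N7C.Big

/-!
# S5929: the closed boxes (helper24)
-/

set_option autoImplicit false

namespace Cfsg.Agent.R2.T1.Main29

open Cfsg Cfsg.Lie Module Equiv Equiv.Perm
open Cfsg.Agent.H943.E7V.Block (D1 rho)
open Cfsg.Agent.H952.F4 (ev es MaxAlt)
open Cfsg.Agent.R2.T1

universe u

/-- the boxes which are still open -/
structure Open (F : Type u) [Field F] : Prop where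
  six2 : ∀ (H : Subgroup ↥(chevE7.group F)) (φ : ↥(alternatingGroup (Fin 6)) →* ↥(chevE7.group F))
    (ψ : ↥(alternatingGroup (Fin 6)) →* Gh F), MaxAlt H 6 φ → Lift φ ψ → (2 : F) = 0 → False
  six3 : ∀ (H : Subgroup ↥(chevE7.group F)) (φ : ↥(alternatingGroup (Fin 6)) →* ↥(chevE7.group F))
    (ψ : ↥(alternatingGroup (Fin 6)) →* Gh F), MaxAlt H 6 φ → Lift φ ψ → (3 : F) = 0 → False
  sev2 : ∀ (H : Subgroup ↥(chevE7.group F)) (φ : ↥(alternatingGroup (Fin 7)) →* ↥(chevE7.group F))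
    (ψ : ↥(alternatingGroup (Fin 7)) →* Gh F), MaxAlt H 7 φ → Lift φ ψ → (2 : F) = 0 → False
  sev3 : ∀ (H : Subgroup ↥(chevE7.group F)) (φ : ↥(alternatingGroup (Fin 7)) →* ↥(chevE7.group F))
    (ψ : ↥(alternatingGroup (Fin 7)) →* Gh F), MaxAlt H 7 φ → Lift φ ψ → (3 : F) = 0 → False
  sev3c : ∀ (H : Subgroup ↥(chevE7.group F)) (φ : ↥(alternatingGroup (Fin 7)) →* ↥(chevE7.group F)),
    MaxAlt H 7 φ → Cover φ → (3 : F) = 0 → False

theorem boxes_of {F : Type u} [Field F] [Finite F] (hO : Open F) : Boxes F where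
  six2 := hO.six2
  six3 := hO.six3
  six3c _ _ hM hc h3 := N6B.six3c hM hc h3
  sev2 := hO.sev2
  sev3 := hO.sev3
  sev7 _ _ _ hM hL h7 := N7.sev7 hM hL h7
  sev11 _ _ _ hM hL h2 h3 h5 h7 := N7.sev11 hM hL h2 h3 h5 h7
  sev3c := hO.sev3c
  sev7c H φ hM hc h2 h3 h5 := N7C.sev7c H φ hM hc h2 h3 h5

end Cfsg.Agent.R2.T1.Main29
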