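import Cfsg.Agent.R2.T1.Main.Fin

/-!
# S5929: the assembly (helper24)

`Boxes F` : the statements which are to be supplied; `of_boxes : Boxes F → S5929 for F`.
-/

set_option autoImplicit false

namespace Cfsg.Agent.R2.T1.Main29

open Cfsg Cfsg.Lie Module Equiv Equiv.Perm
open Cfsg.Agent.H943.E7V.Block (D1 rho)
open Cfsg.Agent.H952.F4 (ev es MaxAlt)
open Cfsg.Agent.R2.T1

universe u

variable {F : Type u} [Field F]

/-- the missing statements -/
structure Boxes (F : Type u) [Field F] : Prop where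
  /-- `n = 6`, `p = 2` -/
  six2 : ∀ (H : Subgroup ↥(chevE7.group F)) (φ : ↥(alternatingGroup (Fin 6)) →* ↥(chevE7.group F))
    (ψ : ↥(alternatingGroup (Fin 6)) →* Gh F), MaxAlt H 6 φ → Lift φ ψ → (2 : F) = 0 → False
  /-- `n = 6`, `p = 3`, lift -/
  six3 : ∀ (H : Subgroup ↥(chevE7.group F)) (φ : ↥(alternatingGroup (Fin 6)) →* ↥(chevE7.group F))
    (ψ : ↥(alternatingGroup (Fin 6)) →* Gh F), MaxAlt H 6 φ → Lift φ ψ → (3 : F) = 0 → False
  /-- `n = 6`, `p = 3`, cover (box B) -/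
  six3c : ∀ (H : Subgroup ↥(chevE7.group F)) (φ : ↥(alternatingGroup (Fin 6)) →* ↥(chevE7.group F)),
    MaxAlt H 6 φ → Cover φ → (3 : F) = 0 → False
  /-- `n = 7`, `p = 2` -/
  sev2 : ∀ (H : Subgroup ↥(chevE7.group F)) (φ : ↥(alternatingGroup (Fin 7)) →* ↥(chevE7.group F))
    (ψ : ↥(alternatingGroup (Fin 7)) →* Gh F), MaxAlt H 7 φ → Lift φ ψ → (2 : F) = 0 → False
  /-- `n = 7`, `p = 3`, lift -/
  sev3 : ∀ (H : Subgroup ↥(chevE7.group F)) (φ : ↥(alternatingGroup (Fin 7)) →* ↥(chevE7.group F))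
    (ψ : ↥(alternatingGroup (Fin 7)) →* Gh F), MaxAlt H 7 φ → Lift φ ψ → (3 : F) = 0 → False
  /-- `n = 7`, `p = 7`, lift -/
  sev7 : ∀ (H : Subgroup ↥(chevE7.group F)) (φ : ↥(alternatingGroup (Fin 7)) →* ↥(chevE7.group F))
    (ψ : ↥(alternatingGroup (Fin 7)) →* Gh F), MaxAlt H 7 φ → Lift φ ψ → (7 : F) = 0 → False
  /-- `n = 7`, `p ≥ 11`, lift -/
  sev11 : ∀ (H : Subgroup ↥(chevE7.group F)) (φ : ↥(alternatingGroup (Fin 7)) →* ↥(chevE7.group F))
    (ψ : ↥(alternatingGroup (Fin 7)) →* Gh F), MaxAlt H 7 φ → Lift φ ψ →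
    (2 : F) ≠ 0 → (3 : F) ≠ 0 → (5 : F) ≠ 0 → (7 : F) ≠ 0 → False
  /-- `n = 7`, `p = 3`, cover -/
  sev3c : ∀ (H : Subgroup ↥(chevE7.group F)) (φ : ↥(alternatingGroup (Fin 7)) →* ↥(chevE7.group F)),
    MaxAlt H 7 φ → Cover φ → (3 : F) = 0 → False
  /-- `n = 7`, `p ≥ 7`, cover -/
  sev7c : ∀ (H : Subgroup ↥(chevE7.group F)) (φ : ↥(alternatingGroup (Fin 7)) →* ↥(chevE7.group F)),
    MaxAlt H 7 φ → Cover φ → (2 : F) ≠ 0 → (3 : F) ≠ 0 → (5 : F) ≠ 0 → False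

theorem of_boxes [Fintype F] (hB : Boxes F) (p : ℕ) [Fact p.Prime] [CharP F p]
    (H : Subgroup ↥(Cfsg.Lie.chevE7.group F)) (hH : IsCoatom H) (n : ℕ) (hn : 5 ≤ n)
    (hA : Nonempty (↥(Cfsg.generalizedFittingSubgroup ↥H) ≃* ↥(alternatingGroup (Fin n)))) :
    5 ≤ p ∧ (n = 7 → p = 5) := by
  have hsimple : IsSimpleGroup ↥(chevE7.group F) := (S1054.result chevE7 (by simp)).1
  have : Finite ↥(chevE7.group F) := inferInstance
  have hpp : p.Prime := Fact.out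
  have hdvd : ∀ m : ℕ, m.Prime → p ≠ m → (m : F) ≠ 0 := by
    intro m hm hne h0
    exact hne ((Nat.prime_dvd_prime_iff_eq hpp hm).1 ((CharP.cast_eq_zero_iff F p m).1 h0))
  obtain ⟨φ, hM⟩ := Cfsg.Agent.H952.F4.MaxA.exists_maxAlt hH hn hA
  have hex := exists_lift hn hM.inj
  rcases Main.final H hH n hn hA with rfl | rfl
  · refine ⟨?_, by norm_num⟩
    by_contra hlt
    have hp23 : p = 2 ∨ p = 3 := by
      have h2 := hpp.two_le
      have h4 : p ≠ 4 := by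
        rintro rfl
        exact absurd hpp (by decide)
      omega
    rcases hp23 with rfl | rfl
    · have h2 : (2 : F) = 0 := by exact_mod_cast CharP.cast_eq_zero F 2
      rcases hex with ⟨ψ, hL⟩ | ⟨h2', -⟩
      · exact hB.six2 H φ ψ hM hL h2
      · exact h2' h2
    · have h3 : (3 : F) = 0 := by exact_mod_cast CharP.cast_eq_zero F 3
      rcases hex with ⟨ψ, hL⟩ | ⟨-, hc⟩
      · exact hB.six3 H φ ψ hM hL h3
      · exact hB.six3c H φ hM hc h3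
  · suffices hp5 : p = 5 by
      subst hp5
      exact ⟨le_rfl, fun _ => rfl⟩
    by_contra hp5
    have h5 : (5 : F) ≠ 0 := by exact_mod_cast hdvd 5 (by norm_num) hp5
    by_cases hp2 : p = 2
    · subst hp2
      have h2 : (2 : F) = 0 := by exact_mod_cast CharP.cast_eq_zero F 2
      rcases hex with ⟨ψ, hL⟩ | ⟨h2', -⟩
      · exact hB.sev2 H φ ψ hM hL h2
      · exact h2' h2
    have h2 : (2 : F) ≠ 0 := by exact_mod_cast hdvd 2 (by norm_num) hp2
    by_cases hp3 : p = 3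
    · subst hp3
      have h3 : (3 : F) = 0 := by exact_mod_cast CharP.cast_eq_zero F 3
      rcases hex with ⟨ψ, hL⟩ | ⟨-, hc⟩
      · exact hB.sev3 H φ ψ hM hL h3
      · exact hB.sev3c H φ hM hc h3
    have h3 : (3 : F) ≠ 0 := by exact_mod_cast hdvd 3 (by norm_num) hp3
    rcases hex with ⟨ψ, hL⟩ | ⟨-, hc⟩
    · by_cases hp7 : p = 7
      · subst hp7
        exact hB.sev7 H φ ψ hM hL (by exact_mod_cast CharP.cast_eq_zero F 7)
      · exact hB.sev11 H φ ψ hM hL h2 h3 h5 (by exact_mod_cast hdvd 7 (by norm_num) hp7)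
    · exact hB.sev7c H φ hM hc h2 h3 h5

end Cfsg.Agent.R2.T1.Main29
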